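import Groth.Agent.EtMu5.Units
import Groth.Agent.S0236
import Groth.Agent.S0108
import Groth.Agent.InvUfdLib.Trivial
import Groth.Agent.ParaFX.Closed
import Groth.Agent.RegUFD.Basic
import Groth.Agent.H6FiltBl.UFD
import Groth.Agent.H9Transfer.Kill
import Groth.Agent.EtFound.ConstFlasque

/-! `H¹(A[1/x], μ_n) = ℤ/n` for a regular strictly henselian local ring `A` and a regular parameter `x` -/

set_option autoImplicit false
set_option linter.style.haveILetI false
set_option backward.isDefEq.respectTransparency false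
set_option backward.isDefEq.respectTransparency.types false

universe u

open CategoryTheory CategoryTheory.Limits AlgebraicGeometry Opposite CategoryTheory.Abelian IsLocalRing

noncomputable section

namespace Groth.Agent.EtMu5

theorem picTrivial_spec (R : Type u) [CommRing R] [IsDomain R] [UniqueFactorizationMonoid R]
    (L : (Spec (CommRingCat.of R)).Modules) (hL : PicF.IsInvertible L) :
    Nonempty (L ≅ Coh.structureModule (Spec (CommRingCat.of R))) := by
  let X := Spec (CommRingCat.of R)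
  let i := (⊤ : X.Opens).ι
  obtain ⟨e⟩ := InvUfdLib.nonempty_iso (R := CommRingCat.of R) (U := (⊤ : X.Opens))
    ((Scheme.Modules.restrictFunctor X.topIso.hom).obj L) (ParaFX.isInvertible_restrict X.topIso.hom hL)
  exact ⟨(Scheme.Modules.restrictFunctorId.app L).symm ≪≫
    ((Scheme.Modules.restrictFunctorCongr X.topIso.inv_hom_id).app L).symm ≪≫
    (ParaFX.restrictTwice L X.topIso.inv X.topIso.hom).symm ≪≫
    (Scheme.Modules.restrictFunctor X.topIso.inv).mapIso e ≪≫ Scheme.Modules.restrictUnitIso _⟩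

/-- `H⁰(X, G_m) = Γ(X, O_X)ˣ` -/
def h0Gm (X : Scheme.{u}) : EtCoh.H X (EtCoh.Gm X) 0 ≃+ Additive Γ(X, ⊤)ˣ :=
  (Sheaf.H.equiv₀ (EtCoh.Gm X) (EtCore.topIsTerminal X)).trans
    (show ULift.{u + 1} (Additive Γ(X, ⊤)ˣ) ≃+ Additive Γ(X, ⊤)ˣ from AddEquiv.ulift)

theorem main (A : Type u) [CommRing A] [IsRegularLocalRing A]
    (hA : EtCoh.IsStrictlyHenselianLocalRing A) (x : A) (hx : x ∈ maximalIdeal A)
    (hx2 : x ∉ (maximalIdeal A) ^ 2) (n : ℕ) (hn : IsUnit (n : A)) :
    Nonempty (EtCoh.H (Spec (CommRingCat.of (Localization.Away x)))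
      (EtCoh.mu (Spec (CommRingCat.of (Localization.Away x))) n) 1 ≃+ ZMod n) := by
  obtain ⟨hh, hsep⟩ := hA
  haveI : HenselianLocalRing A := hh
  haveI : IsSepClosed (ResidueField A) := hsep
  obtain ⟨hdom, hufd⟩ := RegUFD.ufd A
  haveI := hdom
  haveI := hufd
  have hx0 : x ≠ 0 := fun h => hx2 (h ▸ Submodule.zero_mem _)
  have hxp : Prime x := by
    haveI := (RegLoc6.isRegularLocalRing_quot_and hx hx2).1
    haveI := RegLoc6.isDomain_of_isRegularLocalRing (A ⧸ Ideal.span {x})
    exact (Ideal.span_singleton_prime hx0).1 ((Ideal.Quotient.isDomain_iff_prime _).1 inferInstance)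
  let R := Localization.Away x
  have hle : Submonoid.powers x ≤ nonZeroDivisors A := powers_le_nonZeroDivisors_of_noZeroDivisors hx0
  haveI : IsDomain R := IsLocalization.isDomain_of_le_nonZeroDivisors _ hle
  haveI : UniqueFactorizationMonoid R := UniqueFactorizationMonoid.of_isLocalization (Submonoid.powers x) R
  let X := Spec (CommRingCat.of R)
  haveI hH1 : Subsingleton (EtCoh.H X (EtCoh.Gm X) 1) := (S0236.result X).2 (picTrivial_spec R)
  have hnR : IsUnit (n : Γ(X, ⊤)) := by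
    have := (hn.map (algebraMap A R)).map (Scheme.ΓSpecIso (CommRingCat.of R)).inv.hom
    rwa [map_natCast, map_natCast] at this
  haveI : Epi (EtCoh.powMap X n) := S0108.result X n hnR
  let S := ShortComplex.mk (EtCoh.muι X n) (EtCoh.powMap X n) (kernel.condition _)
  have hS : S.ShortExact :=
    { exact := ShortComplex.exact_of_f_is_kernel _ (kernelIsKernel (EtCoh.powMap X n))
      mono_f := inferInstanceAs (Mono (kernel.ι (EtCoh.powMap X n)))
      epi_g := inferInstanceAs (Epi (EtCoh.powMap X n)) }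
  let ρ : Γ(X, ⊤) ≃+* R := (Scheme.ΓSpecIso (CommRingCat.of R)).commRingCatIsoToRingEquiv
  let Φ : EtCoh.H X (EtCoh.Gm X) 0 ≃+ Additive Rˣ :=
    (h0Gm X).trans (MulEquiv.toAdditive (Units.mapEquiv ρ.toMulEquiv))
  let δ : EtCoh.H X (EtCoh.Gm X) 0 →+ EtCoh.H X (EtCoh.mu X n) 1 :=
    (hS.extClass).postcomp _ (zero_add 1)
  have hker : ∀ c, δ c = 0 ↔ ∃ d, n • d = c := fun c => by
    refine ⟨fun h => ?_, ?_⟩
    · obtain ⟨d, hd⟩ := Ext.covariant_sequence_exact₃ _ hS c (zero_add 1) h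
      exact ⟨d, (H9Transfer.comp_nsmul_id d n).symm.trans hd⟩
    · rintro ⟨d, rfl⟩
      refine (congrArg δ (H9Transfer.comp_nsmul_id d n).symm).trans ?_
      show (d.comp (Ext.mk₀ S.g) (add_zero 0)).comp hS.extClass (zero_add 1) = 0
      rw [Ext.comp_assoc_of_second_deg_zero, hS.comp_extClass, Ext.comp_zero]
  have hsurj : Function.Surjective δ := fun y =>
    Ext.covariant_sequence_exact₁ _ hS y (hH1.elim _ _) (zero_add 1)
  let g : ℤ →+ EtCoh.H X (EtCoh.mu X n) 1 := zmultiplesHom _ (δ (Φ.symm (Additive.ofMul (xUnit x))))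
  have hg : ∀ k : ℤ, g k = δ (Φ.symm (Additive.ofMul (xUnit x ^ k))) := fun k => by
    show k • δ _ = _
    rw [← map_zsmul, ← map_zsmul, ofMul_zpow]
  have hgn : g (n : ℤ) = 0 := by
    rw [hg, hker]
    refine ⟨Φ.symm (Additive.ofMul (xUnit x)), ?_⟩
    rw [← map_nsmul, zpow_natCast, ofMul_pow]
  refine ⟨(AddEquiv.ofBijective (ZMod.lift n ⟨g, hgn⟩) ⟨?_, ?_⟩).symm⟩
  · refine (ZMod.lift_injective n).2 fun (k : ℤ) (hk : g k = 0) => ?_
    obtain ⟨d, hd⟩ := (hker _).1 ((hg k).symm.trans hk)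
    have h2 : xUnit x ^ k = (Additive.toMul (Φ d)) ^ n := by
      have := congrArg (fun c => Additive.toMul (Φ c)) hd
      simpa only [map_nsmul, AddEquiv.apply_symm_apply, toMul_nsmul, toMul_ofMul] using this.symm
    exact (ZMod.intCast_zmod_eq_zero_iff_dvd k n).2 (dvd_of_zpow_eq hxp n k _ h2)
  · intro y
    obtain ⟨c, rfl⟩ := hsurj y
    obtain ⟨w, k, hw⟩ := exists_pow_mul hxp n hn (Additive.toMul (Φ c))
    refine ⟨(k : ZMod n), ?_⟩
    rw [ZMod.lift_coe, hg, ← sub_eq_zero, ← map_sub, hker]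
    refine ⟨-Φ.symm (Additive.ofMul w), Φ.injective ?_⟩
    rw [map_nsmul, map_neg, map_sub, AddEquiv.apply_symm_apply, AddEquiv.apply_symm_apply]
    have : Φ c = n • Additive.ofMul w + Additive.ofMul (xUnit x ^ k) :=
      (ofMul_toMul (Φ c)).symm.trans (by rw [hw, ofMul_mul, ofMul_pow])
    have hneg : n • -Additive.ofMul w = -(n • Additive.ofMul w) := map_neg (nsmulAddMonoidHom (α := Additive Rˣ) n) (Additive.ofMul w)
    rw [this, hneg]
    abel

end Groth.Agent.EtMu5
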