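import Groth.Agent.AzInvLib.Local
import Mathlib.RingTheory.Localization.Away.Basic
import Mathlib.RingTheory.UniqueFactorizationDomain.Basic

/-! units of `A[1/x]` for a prime element `x` of a strictly henselian local domain, modulo `n`-th powers -/

set_option autoImplicit false

universe u

open Polynomial IsLocalRing

namespace Groth.Agent.EtMu5

variable {A : Type u} [CommRing A] [IsDomain A] {x : A}

/-- the unit `x` of `A[1/x]` -/
noncomputable def xUnit (x : A) : (Localization.Away x)ˣ :=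
  (IsLocalization.Away.algebraMap_isUnit (S := Localization.Away x) x).unit

theorem val_xUnit (x : A) : ((xUnit x : (Localization.Away x)ˣ) : Localization.Away x) = algebraMap A _ x := rfl

/-- units of `A` in `A[1/x]` -/
noncomputable def ofA (x : A) : Aˣ →* (Localization.Away x)ˣ := Units.map (algebraMap A (Localization.Away x)).toMonoidHom

theorem exists_decomp (hx : Prime x) (u : (Localization.Away x)ˣ) :
    ∃ (c : Aˣ) (k : ℤ), u = ofA x c * xUnit x ^ k := by
  obtain ⟨m, a, ha⟩ := IsLocalization.Away.surj x (u : Localization.Away x)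
  obtain ⟨m', a', ha'⟩ := IsLocalization.Away.surj x ((u⁻¹ : (Localization.Away x)ˣ) : Localization.Away x)
  have hinj : Function.Injective (algebraMap A (Localization.Away x)) :=
    IsLocalization.injective _ (powers_le_nonZeroDivisors_of_noZeroDivisors hx.ne_zero)
  have he : a * a' = x ^ (m + m') := hinj (by
    rw [map_mul, ← ha, ← ha', map_pow, mul_mul_mul_comm, ← pow_add, Units.mul_inv, one_mul])
  obtain ⟨i, -, hi⟩ := (dvd_prime_pow hx _).1 (Dvd.intro a' he)
  obtain ⟨c, hc⟩ := hi.symm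
  refine ⟨c, (i : ℤ) - m, Units.ext ?_⟩
  have h1 : u * xUnit x ^ m = ofA x c * xUnit x ^ i := Units.ext (by
    simp only [Units.val_mul, Units.val_pow_eq_pow_val, val_xUnit, ha, ← hc, map_mul, map_pow]
    exact mul_comm _ _)
  have h2 : u = ofA x c * xUnit x ^ ((i : ℤ) - m) := by
    rw [zpow_sub, zpow_natCast, zpow_natCast, ← mul_assoc, ← h1, mul_inv_cancel_right]
  exact congrArg Units.val h2

theorem eq_zero_of_zpow (hx : Prime x) (i : ℤ) (c : Aˣ) (h : xUnit x ^ i = ofA x c) : i = 0 := by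
  have hinj : Function.Injective (algebraMap A (Localization.Away x)) :=
    IsLocalization.injective _ (powers_le_nonZeroDivisors_of_noZeroDivisors hx.ne_zero)
  have key : ∀ (k : ℕ) (d : Aˣ), xUnit x ^ k = ofA x d → k = 0 := fun k d hk => by
    have : x ^ k = d := hinj (by
      have := congrArg Units.val hk
      rw [Units.val_pow_eq_pow_val, val_xUnit] at this
      rw [map_pow, this]
      rfl)
    by_contra hk0
    exact hx.not_unit ((isUnit_pow_iff hk0).1 (this ▸ d.isUnit))
  obtain ⟨k, rfl | rfl⟩ := Int.eq_nat_or_neg i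
  · simp [key k c (by rwa [zpow_natCast] at h)]
  · simp [key k c⁻¹ (by rw [map_inv, ← h, zpow_neg, inv_inv, zpow_natCast])]

theorem exists_root [HenselianLocalRing A] [IsSepClosed (ResidueField A)] (n : ℕ) (hn : IsUnit (n : A)) (c : Aˣ) :
    ∃ b : Aˣ, b ^ n = c := by
  rcases Nat.eq_zero_or_pos n with rfl | hpos
  · exact absurd (Nat.cast_zero (R := A) ▸ hn) not_isUnit_zero
  obtain ⟨b, hb⟩ := AzInvLib.exists_root_of_separable (X ^ n - C (c : A)) (monic_X_pow_sub_C _ hpos.ne')
    ((Polynomial.separable_X_pow_sub_C_unit c hn)) (by rw [natDegree_X_pow_sub_C]; exact hpos.ne')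
  simp only [IsRoot, eval_sub, eval_pow, eval_X, eval_C, sub_eq_zero] at hb
  have : IsUnit b := (isUnit_pow_iff hpos.ne').1 (hb ▸ c.isUnit)
  exact ⟨this.unit, Units.ext (by simp [hb])⟩

theorem exists_pow_mul [HenselianLocalRing A] [IsSepClosed (ResidueField A)] (hx : Prime x) (n : ℕ)
    (hn : IsUnit (n : A)) (u : (Localization.Away x)ˣ) :
    ∃ (w : (Localization.Away x)ˣ) (k : ℤ), u = w ^ n * xUnit x ^ k := by
  obtain ⟨c, k, rfl⟩ := exists_decomp hx u
  obtain ⟨b, rfl⟩ := exists_root n hn c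
  exact ⟨ofA x b, k, by rw [map_pow]⟩

theorem dvd_of_zpow_eq (hx : Prime x) (n : ℕ) (k : ℤ) (w : (Localization.Away x)ˣ)
    (h : xUnit x ^ k = w ^ n) : (n : ℤ) ∣ k := by
  obtain ⟨c, j, rfl⟩ := exists_decomp hx w
  refine ⟨j, sub_eq_zero.1 (eq_zero_of_zpow hx _ (c ^ n) ?_)⟩
  rw [zpow_sub, h, mul_pow, map_pow, mul_comm (n : ℤ) j, zpow_mul, zpow_natCast, mul_inv_cancel_right]

end Groth.Agent.EtMu5
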